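import Groth.Agent.Lib.SchQuot.Existence
import Groth.Agent.Lib.SchQuot.Props
import Groth.Agent.Lib.NormAmple.Restrict
import Groth.Prelude.Def_RelProj

/-!
# Quotients of quasi-projective schemes by finite groups
-/

noncomputable section

universe u

open CategoryTheory CategoryTheory.Limits AlgebraicGeometry Opposite TopologicalSpace

namespace Groth.Agent.Lib.SchQuotAmple.Basic

open TensorMod TensorMod.Basic TensorMod.Dual Ample.GenLocus NormAmple.Basic SchQuot.IsQuot

variable {X Y : Scheme.{u}} {G : Type u} [Group G] [Finite G] {ρ : G →* Aut X} {p : X ⟶ Y}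

/-- The product of the conjugates of a section. -/
def prodPull (hp : SGA1.IsQuot ρ p) (U : Y.Opens) : Γ(X, p ⁻¹ᵁ U) →* Γ(X, p ⁻¹ᵁ U) :=
  letI := Fintype.ofFinite G
  { toFun := fun s => ∏ g : G, pull hp.inv g U s
    map_one' := by simp
    map_mul' := fun s t => by simp [Finset.prod_mul_distrib] }

theorem prodPull_mem (hp : SGA1.IsQuot ρ p) (U : Y.Opens) (s : Γ(X, p ⁻¹ᵁ U)) :
    prodPull hp U s ∈ Set.range (p.app U).hom := by
  letI := Fintype.ofFinite G
  refine (hp.range_iff U _).mpr fun h => ?_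
  show pull hp.inv h U (∏ g : G, pull hp.inv g U s) = ∏ g : G, pull hp.inv g U s
  rw [map_prod]
  refine Fintype.prod_equiv (Equiv.mulRight h) _ _ fun g => ?_
  rw [Equiv.coe_mulRight, pull_mul hp]
  rfl

theorem app_pullHom_nat (hp : SGA1.IsQuot ρ p) {U V : Y.Opens} (h : V ≤ U) (g : G)
    (s : Γ(X, p ⁻¹ᵁ U)) :
    rf (p.preimage_mono h) (pull hp.inv g U s) = pull hp.inv g V (rf (p.preimage_mono h) s) := by
  show (pull hp.inv g U ≫ X.presheaf.map (homOfLE (p.preimage_mono h)).op) s =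
    (X.presheaf.map (homOfLE (p.preimage_mono h)).op ≫ pull hp.inv g V) s
  rw [pull, pull, Scheme.Hom.appLE_map, Scheme.Hom.map_appLE]

/-- The norm of a section for a quotient by a finite group. -/
def preNorm (hp : SGA1.IsQuot ρ p) : PreNorm p where
  nrm U :=
    { toFun := fun s => (prodPull_mem hp U s).choose
      map_one' := hp.injective U (by rw [(prodPull_mem hp U 1).choose_spec, map_one, map_one])
      map_mul' := fun s t => hp.injective U (by
        rw [(prodPull_mem hp U (s * t)).choose_spec, map_mul, map_mul,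
          (prodPull_mem hp U s).choose_spec, (prodPull_mem hp U t).choose_spec]) }
  nat {U V} h s := by
    letI := Fintype.ofFinite G
    refine hp.injective V ?_
    change (p.app V).hom (rf h (prodPull_mem hp U s).choose) = (p.app V).hom (prodPull_mem hp V _).choose
    rw [(prodPull_mem hp V _).choose_spec]
    have h1 : (p.app V).hom (rf h (prodPull_mem hp U s).choose) =
        rf (p.preimage_mono h) ((p.app U).hom (prodPull_mem hp U s).choose) :=
      congr($(p.naturality (homOfLE h).op).hom _)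
    rw [h1, (prodPull_mem hp U s).choose_spec]
    show rf (p.preimage_mono h) (∏ g : G, pull hp.inv g U s) = ∏ g : G, pull hp.inv g V _
    rw [show rf (p.preimage_mono h) (∏ g : G, pull hp.inv g U s) =
      ∏ g : G, rf (p.preimage_mono h) (pull hp.inv g U s) from map_prod _ _ _]
    exact Finset.prod_congr rfl fun g _ => app_pullHom_nat hp h g s
  mem U s y hy h hyN := by
    letI := Fintype.ofFinite G
    obtain ⟨x, rfl⟩ := SchQuot.IsQuot.surjective hp y
    have hx : x ∈ X.basicOpen ((p.app U).hom (prodPull_mem hp U s).choose) := by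
      rw [← Scheme.preimage_basicOpen]; exact hyN
    rw [(prodPull_mem hp U s).choose_spec] at hx
    have hu := (Scheme.mem_basicOpen X _ x hy).1 hx
    change IsUnit (X.presheaf.germ (p ⁻¹ᵁ U) x hy (∏ g : G, pull hp.inv g U s)) at hu
    rw [map_prod, IsUnit.prod_univ_iff] at hu
    have h1 := (Scheme.mem_basicOpen X _ x hy).2 (hu 1)
    rw [pull_one hp] at h1
    exact h x rfl h1

theorem exists_affine_orbit {S : Scheme.{u}} (f : X ⟶ S) (ρ : G →* Aut X) (hρ : ∀ σ : G, (ρ σ).hom ≫ f = f)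
    {L : X.Modules} (hL : _root_.RelAmple.IsRelAmple f L) (x : X) :
    ∃ U : X.Opens, IsAffineOpen U ∧ ∀ g : G, (ρ g).hom.base x ∈ U := by
  rw [Ample.RelAmple.isRelAmple_iff] at hL
  obtain ⟨V, hV, hxV, -⟩ := exists_isAffineOpen_mem_and_subset (X := S) (x := f x) (U := ⊤) trivial
  have hA := hL.2 V hV
  haveI := Ample.Pullback.quasiSeparatedSpace_of_isAmple hA
  have hmem : ∀ g : G, (ρ g).hom.base x ∈ f ⁻¹ᵁ V := fun g => by
    show f ((ρ g).hom x) ∈ V
    rw [← Scheme.Hom.comp_apply, hρ]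
    exact hxV
  obtain ⟨n, -, s, hZ, -, haff⟩ := Ample.Basis.exists_locus_of_finite hA
    (Set.range fun g : G => (⟨(ρ g).hom.base x, hmem g⟩ : (f ⁻¹ᵁ V : Scheme.{u}))) (Set.finite_range _) ⊤
    (fun _ _ => trivial)
  exact ⟨(f ⁻¹ᵁ V).ι ''ᵁ _, haff.image_of_isOpenImmersion (f ⁻¹ᵁ V).ι,
    fun g => ⟨_, hZ ⟨g, rfl⟩, rfl⟩⟩

theorem exists_isQuot_isQuasiProjective {X S : Scheme.{u}} (f : X ⟶ S) [IsLocallyNoetherian S]
    {G : Type u} [Group G] [Finite G] (ρ : G →* Aut X) (hρ : ∀ σ : G, (ρ σ).hom ≫ f = f)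
    (hf : RelProj.IsQuasiProjective f) :
    ∃ (Y : Scheme.{u}) (q : X ⟶ Y) (h : Y ⟶ S), q ≫ h = f ∧ SGA1.IsQuot ρ q ∧
      RelProj.IsQuasiProjective h := by
  obtain ⟨hft, hqc, L, hL⟩ := hf
  obtain ⟨Y, q, hq⟩ := SchQuot.Existence.exists_isQuot ρ (exists_affine_orbit f ρ hρ hL)
  obtain ⟨h, hh, -⟩ := SchQuot.IsQuot.existsUnique_desc hq f hρ
  subst hh
  haveI := hq.affine
  haveI : IsFinite q := SchQuot.Props.isFinite_of_comp hq h hft
  haveI := SchQuot.Props.quasiCompact_of_comp hq h hqc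
  obtain ⟨P, hP, ⟨D⟩⟩ := NormAmple.Bundle.exists_frames (preNorm hq)
    (Ample.RelAmple.isInvertible_of_isRelAmple hL)
  exact ⟨Y, q, h, rfl, hq, SchQuot.Props.locallyOfFiniteType_of_comp' hq h hft, inferInstance, P,
    NormAmple.Restrict.isRelAmple_norm h (SchQuot.IsQuot.surjective hq) D hP hL⟩

end Groth.Agent.Lib.SchQuotAmple.Basic
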